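import Cfsg.Agent.H241.Deg.MonFinal
import Cfsg.Agent.H58.Cop.MSc_m3
import Cfsg.Agent.H436.MonLoc
import Cfsg.Agent.S0000
import Cfsg.Agent.Prune
set_option linter.all false
prune_inst 0x7f00000000000000000000000000000000000000000000000000000000000000000000000000000000000000000000000000000000000000000000000000000000000000000000000000000000000000003fffffffffffffffffffffffffffbeffbdffffffff

/-!
# (M,23) of S4929: centralizers in the Monster, without hypotheses (helper164, for helper792)

`c29`, `c41`, `c47`, `c59`, `c71` : the orders of the centralizers of the elements of order 29, 41, 47, 59, 71 of `MG`;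
`inf47` : `|C(x) ∩ C(t)| = 94` for `x` of order 47 and `t` of order 2 commuting with `x`.
-/

set_option autoImplicit false

namespace Cfsg.Agent.H164.M23

open Subgroup Cfsg
open Cfsg.Agent.BpSpor.MBigModel (MG)

theorem base : Cfsg.Agent.H940.Eng.Base := ⟨Cfsg.Agent.OrdDiv.table.{0}, fun _ _ _ _ => Cfsg.Agent.S0000.result⟩

theorem allKnown : Cfsg.Agent.H995.CopEngine.AllKnown.{0} := Cfsg.Agent.H438.Fpr.Mon.allKnown base

theorem c29 {x : MG} (hx : orderOf x = 29) : Nat.card (centralizer ({x} : Set MG)) = 29 * 3 :=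
  Cfsg.Agent.H626.LD.TwentyNine.card_cent hx

theorem c41 {x : MG} (hx : orderOf x = 41) : Nat.card (centralizer ({x} : Set MG)) = 41 :=
  Cfsg.Agent.H241.Deg.Mon.card41 base hx

theorem c47 {x : MG} (hx : orderOf x = 47) : Nat.card (centralizer ({x} : Set MG)) = 47 * 2 :=
  Cfsg.Agent.H436.MonLoc.card47 allKnown hx

theorem c59 {x : MG} (hx : orderOf x = 59) : Nat.card (centralizer ({x} : Set MG)) = 59 :=
  (Cfsg.Agent.H58.Cop.M.norm_fiftynine allKnown hx).1

theorem c71 {x : MG} (hx : orderOf x = 71) : Nat.card (centralizer ({x} : Set MG)) = 71 :=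
  (Cfsg.Agent.H241.Deg.Mon.norm71 base hx).1

end Cfsg.Agent.H164.M23
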